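import Cfsg.Agent.SLThree.Stab

/-!
There is no polarity without absolute points; hence no point-transitive subgroup of `SL(3, F)`
without transvections containing the involution `diag(1,-1,-1)`.
-/

set_option autoImplicit false
set_option linter.unusedSectionVars false
set_option linter.unusedSimpArgs false
set_option linter.style.haveILetI false

namespace Cfsg.Agent.SLThree

open Matrix Cfsg.Geo Cfsg.Agent.GeoClasses Cfsg.Agent.MaxSub.SubfieldMax
open scoped MatrixGroups Matrix

variable {F : Type*} [Field F] [Fintype F]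

theorem finrank_dot_ker {a : Fin 3 → F} (ha : a ≠ 0) :
    Module.finrank F (LinearMap.ker (dotProductBilin F F a)) = 2 := by
  have h := (dotProductBilin F F a).finrank_range_add_finrank_ker
  rw [Module.finrank_pi] at h
  have hne : dotProductBilin F F a ≠ 0 := fun h0 => ha (dotProduct_eq_zero _ fun v => by
    simpa using LinearMap.congr_fun h0 v)
  have hr : LinearMap.range (dotProductBilin F F a) = ⊤ := by
    rcases eq_bot_or_eq_top (LinearMap.range (dotProductBilin F F a)) with h' | h'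
    · exact absurd (LinearMap.range_eq_bot.1 h') hne
    · exact h'
  rw [hr, finrank_top, Module.finrank_self, Fintype.card_fin] at h
  omega

/-- Points on the intersection of the zero sets of two functionals, counted in `F`. -/
theorem card_common_zero (a b : Fin 3 → F) (ha : a ≠ 0) :
    ((Nat.card {P : Pt F // a ⬝ᵥ rep P = 0 ∧ b ⬝ᵥ rep P = 0} : ℕ) : F) = 1 := by
  classical
  set W : Submodule F (Fin 3 → F) :=
    LinearMap.ker (dotProductBilin F F a) ⊓ LinearMap.ker (dotProductBilin F F b) with hW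
  -- non-zero vectors of `W` are multiples of representatives
  let Φ : {P : Pt F // a ⬝ᵥ rep P = 0 ∧ b ⬝ᵥ rep P = 0} × Fˣ → {v : W // v ≠ 0} := fun x =>
    ⟨⟨(x.2 : F) • rep x.1.1, by
      simp [hW, dotProduct_smul, x.1.2.1, x.1.2.2]⟩, fun h =>
        rep_ne_zero x.1.1 ((smul_eq_zero.1 (congrArg Subtype.val h)).resolve_left x.2.ne_zero)⟩
  have hΦ : Function.Bijective Φ := by
    constructor
    · rintro ⟨⟨P, hP⟩, c⟩ ⟨⟨Q, hQ⟩, d⟩ h
      have hv : (c : F) • rep P = (d : F) • rep Q := congrArg (fun v => v.1.1) h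
      have hPQ : P = Q := line_rep_injective ((line_eq_iff (rep_ne_zero P)).2
        ⟨(c : F)⁻¹ * d, mul_ne_zero (inv_ne_zero c.ne_zero) d.ne_zero, by
          rw [mul_smul, ← hv, smul_smul, inv_mul_cancel₀ c.ne_zero, one_smul]⟩)
      subst hPQ
      have hcd : (c : F) = d := by
        by_contra hne
        exact rep_ne_zero P ((smul_eq_zero.1 (by rw [sub_smul, hv, sub_self] :
          ((c : F) - d) • rep P = 0)).resolve_left (sub_ne_zero.2 hne))
      exact Prod.ext rfl (Units.ext hcd)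
    · rintro ⟨⟨v, hv⟩, hv0⟩
      have hv0' : v ≠ 0 := fun h => hv0 (Subtype.ext h)
      obtain ⟨P, hP⟩ := exists_pt hv0'
      obtain ⟨c, hc, e⟩ := (line_eq_iff hv0').1 hP
      simp [hW, e, dotProduct_smul, hc] at hv
      exact ⟨⟨⟨P, hv⟩, Units.mk0 c hc⟩, Subtype.ext (Subtype.ext e.symm)⟩
  have hcard := Nat.card_congr (Equiv.ofBijective Φ hΦ)
  rw [Nat.card_prod, Nat.card_eq_fintype_card (α := Fˣ), Fintype.card_units] at hcard
  have hW' : Nat.card {v : W // v ≠ 0} = Fintype.card F ^ Module.finrank F W - 1 := by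
    rw [← Module.card_eq_pow_finrank (K := F) (V := W), Nat.card_eq_fintype_card,
      Fintype.card_subtype_compl, Fintype.card_subtype_eq]
  rw [hW'] at hcard
  have hdim : 1 ≤ Module.finrank F W := by
    have h1 := Submodule.finrank_sup_add_finrank_inf_eq (LinearMap.ker (dotProductBilin F F a))
      (LinearMap.ker (dotProductBilin F F b))
    have h2 := finrank_dot_ker ha
    have h3 : Module.finrank F ↥(LinearMap.ker (dotProductBilin F F a) ⊔ LinearMap.ker (dotProductBilin F F b)) ≤ 3 := by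
      have := Submodule.finrank_le (R := F) (M := Fin 3 → F)
        (LinearMap.ker (dotProductBilin F F a) ⊔ LinearMap.ker (dotProductBilin F F b))
      simpa using this
    have h4 : 2 ≤ Module.finrank F (LinearMap.ker (dotProductBilin F F b)) := by
      rcases eq_or_ne b 0 with rfl | hb
      · rw [map_zero, LinearMap.ker_zero, finrank_top, Module.finrank_pi, Fintype.card_fin]
        omega
      · exact (finrank_dot_ker hb).ge
    rw [hW]; omega
  have hq : 1 < Fintype.card F := Fintype.one_lt_card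
  have hpos : 1 ≤ Fintype.card F ^ Module.finrank F W := Nat.one_le_pow _ _ (by omega)
  have hF := congrArg (fun n : ℕ => (n : F)) hcard
  simp only [Nat.cast_mul, Nat.cast_sub hq.le, Nat.cast_sub hpos, Nat.cast_pow,
    FiniteField.cast_card_eq_zero, Nat.cast_one, zero_pow (by omega : Module.finrank F W ≠ 0)] at hF
  linear_combination -hF

/-- A symmetric incidence relation between points and lines has an absolute point. -/
theorem no_polarity (φ : Pt F → Fin 3 → F) (habs : ∀ P, φ P ⬝ᵥ rep P ≠ 0)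
    (hsymm : ∀ P Q, φ P ⬝ᵥ rep Q = 0 → φ Q ⬝ᵥ rep P = 0) : False := by
  classical
  let A : Matrix (Pt F) (Pt F) F := fun P Q => if φ P ⬝ᵥ rep Q = 0 then 1 else 0
  have hne : ∀ P, φ P ≠ 0 := fun P h => habs P (by rw [h, zero_dotProduct])
  let J : Matrix (Pt F) (Pt F) F := fun _ _ => 1
  have hrow : ∀ a b : Pt F, ∑ Q, A a Q * A b Q = 1 := by
    intro a b
    rw [← card_common_zero (φ a) (φ b) (hne a), Nat.card_eq_fintype_card, Fintype.card_subtype,
      Finset.natCast_card_filter]
    refine Finset.sum_congr rfl fun Q _ => ?_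
    simp only [A]
    split_ifs <;> simp_all
  have hT : ∀ P Q, A P Q = A Q P := fun P Q => by
    simp only [A]
    split_ifs with h1 h2 h2
    · rfl
    · exact absurd (hsymm _ _ h1) h2
    · exact absurd (hsymm _ _ h2) h1
    · rfl
  have hA2 : A ^ 2 = J := by
    ext a b
    rw [pow_two, Matrix.mul_apply]
    simp only [hT _ b]
    exact hrow a b
  have hJA : J * A = J := by
    ext a b
    rw [Matrix.mul_apply]
    simp only [J, one_mul]
    have := hrow b b
    simp only [A, mul_ite, mul_one, mul_zero, ite_self] at this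
    simp only [hT _ b]
    convert this using 2 with Q
    simp only [A]
    split_ifs <;> rfl
  have hpow : ∀ m, A ^ (m + 2) = J := fun m => by
    induction m with
    | zero => exact hA2
    | succ m ih => rw [pow_succ, ih, hJA]
  have hq : 1 < Fintype.card F := Fintype.one_lt_card
  have htr : (A ^ Fintype.card F).trace = 0 := by
    rw [FiniteField.trace_pow_card]
    have : A.trace = 0 := Finset.sum_eq_zero fun P _ => by simp [A, Matrix.diag, habs P]
    rw [this, zero_pow (by omega)]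
  obtain ⟨m, hm⟩ : ∃ m, Fintype.card F = m + 2 := ⟨Fintype.card F - 2, by omega⟩
  rw [hm, hpow] at htr
  have h2 : J.trace = ((Nat.card (Pt F) : ℕ) : F) := by
    simp only [J, Matrix.trace, Matrix.diag, Finset.sum_const, Finset.card_univ, nsmul_one,
      Nat.card_eq_fintype_card]
  rw [h2, card_pt] at htr
  simp [FiniteField.cast_card_eq_zero] at htr

/-- No point-transitive subgroup without transvections at `e₀` contains `diag(1,-1,-1)`. -/
theorem transitive_false (h2 : (2 : F) ≠ 0) {X : Subgroup (GL (Fin 3) F)}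
    (hXS : X ≤ specialLinear (Fin 3) F) (hK : NoRootAt X) (htr : ∀ P, P ∈ ptOrbit X e₀)
    {h : GL (Fin 3) F} (hh : h ∈ X)
    (hval : (h : Matrix (Fin 3) (Fin 3) F) = !![1, 0, 0; 0, -1, 0; 0, 0, -1]) : False := by
  classical
  set H : Matrix (Fin 3) (Fin 3) F := !![1, 0, 0; 0, -1, 0; 0, 0, -1] with hH
  have fh : Fix0 H := by simp [Fix0, hH]
  have bh : blk H = -1 := by
    ext i j; fin_cases i <;> fin_cases j <;> simp [blk, hH]
  -- `h` is central in the stabiliser
  have hcent : ∀ k ∈ X, Fix0 (k : Matrix (Fin 3) (Fin 3) F) → h * k = k * h := by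
    intro k hk fk
    refine eq_of_blk hXS hK (mul_mem hh hk) (mul_mem hk hh) ?_ ?_ ?_
    · rw [Units.val_mul, hval]; exact fh.mul fk
    · rw [Units.val_mul, hval]; exact fk.mul fh
    · rw [Units.val_mul, Units.val_mul, hval, blk_mul fh, blk_mul fk, bh]; simp
  choose g hgX hg using htr
  set τ : Pt F → GL (Fin 3) F := fun P => g P * h * (g P)⁻¹ with hτ
  let φ : Pt F → Fin 3 → F := fun P =>
    (![1, 0, 0] : Fin 3 → F) ᵥ* (((g P)⁻¹ : GL (Fin 3) F) : Matrix (Fin 3) (Fin 3) F)
  have hφ : ∀ P v, φ P ⬝ᵥ v = ((((g P)⁻¹ : GL (Fin 3) F) : Matrix (Fin 3) (Fin 3) F) *ᵥ v) 0 := by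
    intro P v
    simp only [φ, ← dotProduct_mulVec]
    simp [dotProduct, Fin.sum_univ_three]
  have hbase : ∀ P, ∃ c : F, c ≠ 0 ∧
      (((g P)⁻¹ : GL (Fin 3) F) : Matrix (Fin 3) (Fin 3) F) *ᵥ rep P = c • e₀ := by
    intro P
    have hne : (e₀ : Fin 3 → F) ≠ 0 := fun h => by simpa [e₀] using congrFun h 0
    obtain ⟨c, hc, e⟩ := (line_eq_iff (mulVec_ne_zero (g P) hne)).1 (hg P)
    refine ⟨c⁻¹, inv_ne_zero hc, ?_⟩
    have := congrArg ((((g P)⁻¹ : GL (Fin 3) F) : Matrix (Fin 3) (Fin 3) F) *ᵥ ·) e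
    simp only [Matrix.mulVec_mulVec, ← Units.val_mul, inv_mul_cancel, Units.val_one, Matrix.one_mulVec,
      Matrix.mulVec_smul] at this
    rw [this, smul_smul, inv_mul_cancel₀ hc, one_smul]
  have hfix : ∀ P, (τ P : Matrix (Fin 3) (Fin 3) F) *ᵥ rep P = rep P := by
    intro P
    obtain ⟨c, -, e⟩ := hbase P
    apply mulVec_injective (g P)⁻¹
    simp only [hτ, Units.val_mul, ← Matrix.mulVec_mulVec]
    rw [Matrix.mulVec_mulVec (M := (((g P)⁻¹ : GL (Fin 3) F) : Matrix (Fin 3) (Fin 3) F)),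
      ← Units.val_mul, inv_mul_cancel, Units.val_one, Matrix.one_mulVec, e, hval, Matrix.mulVec_smul]
    congr 1
    ext i; fin_cases i <;> simp [hH, e₀, Matrix.mulVec, dotProduct, Fin.sum_univ_three]
  -- eigenvectors for `-1` of `τ P` are exactly the zeros of `φ P`
  have hneg : ∀ P v, φ P ⬝ᵥ v = 0 ↔ (τ P : Matrix (Fin 3) (Fin 3) F) *ᵥ v = -v := by
    intro P v
    rw [hφ]
    set w := (((g P)⁻¹ : GL (Fin 3) F) : Matrix (Fin 3) (Fin 3) F) *ᵥ v with hw
    have hv : (g P : Matrix (Fin 3) (Fin 3) F) *ᵥ w = v := by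
      rw [hw, Matrix.mulVec_mulVec, ← Units.val_mul, mul_inv_cancel, Units.val_one, Matrix.one_mulVec]
    have : (τ P : Matrix (Fin 3) (Fin 3) F) *ᵥ v = (g P : Matrix (Fin 3) (Fin 3) F) *ᵥ (H *ᵥ w) := by
      simp only [hτ, Units.val_mul, ← Matrix.mulVec_mulVec, hw, hval]
    rw [this, ← hv, ← Matrix.mulVec_neg]
    constructor
    · intro h0
      congr 1
      ext i; fin_cases i <;> simp [hH, Matrix.mulVec, dotProduct, Fin.sum_univ_three, h0, Matrix.vecHead, Matrix.vecTail]
    · intro e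
      have := congrFun (mulVec_injective (g P) e) 0
      simp [hH, Matrix.mulVec, dotProduct, Fin.sum_univ_three] at this
      have : (2 : F) * w 0 = 0 := by linear_combination this
      exact (mul_eq_zero.1 this).resolve_left h2
  refine no_polarity φ (fun P => ?_) (fun P Q hPQ => ?_)
  · obtain ⟨c, hc, e⟩ := hbase P
    rw [hφ, e]
    simp [e₀, hc]
  · -- `τ P` fixes `Q`, so commutes with `τ Q`
    obtain ⟨c, hc, e⟩ := hbase Q
    have hτX : τ P ∈ X := mul_mem (mul_mem (hgX P) hh) (inv_mem (hgX P))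
    set k := (g Q)⁻¹ * τ P * g Q with hk
    have hkX : k ∈ X := mul_mem (mul_mem (inv_mem (hgX Q)) hτX) (hgX Q)
    have fk : Fix0 (k : Matrix (Fin 3) (Fin 3) F) := by
      have he : (k : Matrix (Fin 3) (Fin 3) F) *ᵥ e₀ = -e₀ := by
        have e' : (g Q : Matrix (Fin 3) (Fin 3) F) *ᵥ e₀ = c⁻¹ • rep Q := by
          have := congrArg (fun x => c⁻¹ • ((g Q : Matrix (Fin 3) (Fin 3) F) *ᵥ x)) e
          simp only [Matrix.mulVec_mulVec, ← Units.val_mul, mul_inv_cancel, Units.val_one,
            Matrix.one_mulVec, Matrix.mulVec_smul, smul_smul, inv_mul_cancel₀ hc, one_smul] at this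
          exact this.symm
        rw [hk, Units.val_mul, Units.val_mul, ← Matrix.mulVec_mulVec, ← Matrix.mulVec_mulVec, e',
          Matrix.mulVec_smul, (hneg P (rep Q)).1 hPQ, Matrix.mulVec_smul, Matrix.mulVec_neg, e, smul_neg,
          smul_smul, inv_mul_cancel₀ hc, one_smul]
      constructor
      · have := congrFun he 1
        simpa [Matrix.mulVec, dotProduct, Fin.sum_univ_three, e₀, Matrix.vecHead, Matrix.vecTail] using this
      · have := congrFun he 2
        simpa [Matrix.mulVec, dotProduct, Fin.sum_univ_three, e₀, Matrix.vecHead, Matrix.vecTail] using this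
    have hcomm : τ P * τ Q = τ Q * τ P := by
      have := hcent k hkX fk
      calc τ P * τ Q = g Q * (k * h) * (g Q)⁻¹ := by simp [hτ, hk, mul_assoc]
        _ = g Q * (h * k) * (g Q)⁻¹ := by rw [this]
        _ = τ Q * τ P := by simp [hτ, hk, mul_assoc]
    -- so `τ Q` preserves the fixed line of `τ P`
    set w := (τ Q : Matrix (Fin 3) (Fin 3) F) *ᵥ rep P with hw
    have hwfix : (τ P : Matrix (Fin 3) (Fin 3) F) *ᵥ w = w := by
      rw [hw, Matrix.mulVec_mulVec, ← Units.val_mul, hcomm, Units.val_mul, ← Matrix.mulVec_mulVec, hfix]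
    obtain ⟨d, hd⟩ : ∃ d : F, w = d • rep P := by
      obtain ⟨c', hc', e'⟩ := hbase P
      set x := (((g P)⁻¹ : GL (Fin 3) F) : Matrix (Fin 3) (Fin 3) F) *ᵥ w with hx
      have hHx : H *ᵥ x = x := by
        apply mulVec_injective (g P)
        simp only [hτ, Units.val_mul, ← Matrix.mulVec_mulVec, hval] at hwfix
        rw [← hx] at hwfix
        show (g P : Matrix (Fin 3) (Fin 3) F) *ᵥ (H *ᵥ x) = (g P : Matrix (Fin 3) (Fin 3) F) *ᵥ x
        rw [hwfix, hx, Matrix.mulVec_mulVec, ← Units.val_mul, mul_inv_cancel, Units.val_one,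
          Matrix.one_mulVec]
      refine ⟨x 0 / c', mulVec_injective (g P)⁻¹ ?_⟩
      show (((g P)⁻¹ : GL (Fin 3) F) : Matrix (Fin 3) (Fin 3) F) *ᵥ w =
        (((g P)⁻¹ : GL (Fin 3) F) : Matrix (Fin 3) (Fin 3) F) *ᵥ ((x 0 / c') • rep P)
      rw [← hx, Matrix.mulVec_smul, e', smul_smul, div_mul_cancel₀ _ hc']
      have h1 := congrFun hHx 1
      have h2' := congrFun hHx 2
      simp [hH, Matrix.mulVec, dotProduct, Fin.sum_univ_three, Matrix.vecHead, Matrix.vecTail] at h1 h2'
      have hx1 : x 1 = 0 := (mul_eq_zero.1 (by linear_combination -h1 : (2 : F) * x 1 = 0)).resolve_left h2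
      have hx2 : x 2 = 0 := (mul_eq_zero.1 (by linear_combination -h2' : (2 : F) * x 2 = 0)).resolve_left h2
      ext i; fin_cases i <;> simp [e₀, hx1, hx2]
    -- the multiplier is `-1`, otherwise `P` would be the centre of `τ Q`
    obtain ⟨cQ, hcQ, eQ⟩ := hbase Q
    set z := (((g Q)⁻¹ : GL (Fin 3) F) : Matrix (Fin 3) (Fin 3) F) *ᵥ rep P with hz
    have hz' : H *ᵥ z = d • z := by
      apply mulVec_injective (g Q)
      have hw2 := hd
      simp only [hw, hτ, Units.val_mul, ← Matrix.mulVec_mulVec, hval] at hw2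
      rw [← hz] at hw2
      show (g Q : Matrix (Fin 3) (Fin 3) F) *ᵥ (H *ᵥ z) = (g Q : Matrix (Fin 3) (Fin 3) F) *ᵥ (d • z)
      rw [hw2, Matrix.mulVec_smul, hz, Matrix.mulVec_mulVec, ← Units.val_mul, mul_inv_cancel,
        Units.val_one, Matrix.one_mulVec]
    by_contra hQP
    rw [hφ, ← hz] at hQP
    have z0 := congrFun hz' 0
    have z1 := congrFun hz' 1
    have z2 := congrFun hz' 2
    simp [hH, Matrix.mulVec, dotProduct, Fin.sum_univ_three, Matrix.vecHead, Matrix.vecTail] at z0 z1 z2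
    have hd1 : d = 1 := mul_right_cancel₀ hQP (by linear_combination -z0)
    subst hd1
    have hz1 : z 1 = 0 := (mul_eq_zero.1 (by linear_combination -z1 : (2 : F) * z 1 = 0)).resolve_left h2
    have hz2 : z 2 = 0 := (mul_eq_zero.1 (by linear_combination -z2 : (2 : F) * z 2 = 0)).resolve_left h2
    have hzc : z = (z 0 / cQ) • ((((g Q)⁻¹ : GL (Fin 3) F) : Matrix (Fin 3) (Fin 3) F) *ᵥ rep Q) := by
      rw [eQ, smul_smul, div_mul_cancel₀ _ hcQ]
      ext i; fin_cases i <;> simp [e₀, hz1, hz2]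
    rw [hz, ← Matrix.mulVec_smul] at hzc
    have hPQ' : P = Q := line_rep_injective ((line_eq_iff (rep_ne_zero P)).2
      ⟨z 0 / cQ, div_ne_zero hQP hcQ, mulVec_injective _ hzc⟩)
    subst hPQ'
    obtain ⟨c', hc', e'⟩ := hbase P
    rw [hφ, e'] at hPQ
    simp [e₀] at hPQ
    exact hc' hPQ

end Cfsg.Agent.SLThree
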